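import Cfsg.Agent.H419.EP.Soc

/-!
# S3499: a crude bound for the index (helper991)

`A.index ≤ (∑_{i < Ω(N)} cb N i) ^ 2` for `|A| ∣ N`, `cb N i = ∏_{j < i} ⌊N / 2 ^ j⌋` : every proper subgroup of `A` is
obtained by a chain of at most `Ω(|A|) - 1` cyclic extensions.
-/

set_option autoImplicit false

namespace Cfsg.Agent.H991.EP

open Subgroup Cfsg.Agent.H284 Cfsg.Agent.H419.EP

/-- `∏_{j < i} ⌊n / 2 ^ j⌋` -/
def cb (n : ℕ) : ℕ → ℕ
  | 0 => 1
  | i + 1 => cb n i * (n / 2 ^ i)

theorem cb_mono {n m : ℕ} (h : n ≤ m) (i : ℕ) : cb n i ≤ cb m i := by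
  induction i with
  | zero => exact le_rfl
  | succ i ih => exact Nat.mul_le_mul ih (Nat.div_le_div_right h)

/-- `∑_{i < k} cb n i` -/
def sb (n : ℕ) : ℕ → ℕ
  | 0 => 0
  | k + 1 => sb n k + cb n k

section

variable {Q : Type*} [Group Q]

/-- the subgroups of `A` obtained by a strict chain of `i` cyclic extensions -/
def R (A : Subgroup Q) : ℕ → Set (Subgroup Q)
  | 0 => {⊥}
  | i + 1 => {M | ∃ M' ∈ R A i, M' < M ∧ ∃ g ∈ A, M = M' ⊔ zpowers g}

theorem R_le {A : Subgroup Q} : ∀ {i : ℕ} {M : Subgroup Q}, M ∈ R A i → M ≤ A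
  | 0, M, h => by
    rw [R, Set.mem_singleton_iff] at h
    rw [h]
    exact bot_le
  | i + 1, M, h => by
    obtain ⟨M', h1, -, g, hg, rfl⟩ := h
    exact sup_le (R_le h1) ((zpowers_le).2 hg)

variable [Finite Q]

theorem pow_le_card {A : Subgroup Q} : ∀ {i : ℕ} {M : Subgroup Q}, M ∈ R A i → 2 ^ i ≤ Nat.card M
  | 0, M, h => by
    rw [pow_zero]
    exact Nat.card_pos
  | i + 1, M, h => by
    obtain ⟨M', h1, h2, -⟩ := h
    have h3 := pow_le_card h1
    have h4 : Nat.card M' ∣ Nat.card M := Subgroup.card_dvd_of_le h2.le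
    obtain ⟨k, hk⟩ := h4
    have h5 : k ≠ 0 := by
      rintro rfl
      rw [mul_zero] at hk
      exact Nat.card_pos.ne' hk
    have h6 : k ≠ 1 := by
      rintro rfl
      rw [mul_one] at hk
      exact h2.ne (Subgroup.eq_of_le_of_card_ge h2.le hk.le)
    rw [hk, pow_succ]
    exact Nat.mul_le_mul h3 (by omega)

theorem card_step {A : Subgroup Q} {M : Subgroup Q} (hM : M ≤ A) :
    {K : Subgroup Q | ∃ g ∈ A, K = M ⊔ zpowers g}.ncard ≤ Nat.card A / Nat.card M := by
  classical
  let f : A ⧸ M.subgroupOf A → Subgroup Q := Quotient.lift (fun g : A => M ⊔ zpowers (g : Q)) (by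
    intro a b hab
    have h1 : a⁻¹ * b ∈ M.subgroupOf A := QuotientGroup.leftRel_apply.1 hab
    have h2 : (a : Q)⁻¹ * b ∈ M := h1
    apply le_antisymm
    · refine sup_le le_sup_left ?_
      rw [zpowers_le]
      have h3 : (a : Q) = b * ((a : Q)⁻¹ * b)⁻¹ := by group
      rw [h3]
      exact mul_mem ((le_sup_right : _ ≤ M ⊔ zpowers (b : Q)) (mem_zpowers _))
        ((le_sup_left : M ≤ _) (M.inv_mem h2))
    · refine sup_le le_sup_left ?_
      rw [zpowers_le]
      have h3 : (b : Q) = a * ((a : Q)⁻¹ * b) := by group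
      rw [h3]
      exact mul_mem ((le_sup_right : _ ≤ M ⊔ zpowers (a : Q)) (mem_zpowers _)) ((le_sup_left : M ≤ _) h2))
  have h1 : {K : Subgroup Q | ∃ g ∈ A, K = M ⊔ zpowers g} ⊆ Set.range f := by
    rintro K ⟨g, hg, rfl⟩
    exact ⟨QuotientGroup.mk ⟨g, hg⟩, rfl⟩
  have h2 : (Set.range f).ncard ≤ Nat.card (A ⧸ M.subgroupOf A) := by
    rw [← Nat.card_coe_set_eq]
    exact Finite.card_range_le f
  have h3 : Nat.card (A ⧸ M.subgroupOf A) = Nat.card A / Nat.card M := by
    have h4 := Subgroup.card_eq_card_quotient_mul_card_subgroup (M.subgroupOf A)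
    rw [Nat.card_congr (Subgroup.subgroupOfEquivOfLe hM).toEquiv] at h4
    rw [h4, Nat.mul_div_cancel _ Nat.card_pos]
  exact (Set.ncard_le_ncard h1 (Set.toFinite _)).trans (h2.trans h3.le)

theorem card_R (A : Subgroup Q) (i : ℕ) : (R A i).ncard ≤ cb (Nat.card A) i := by
  classical
  induction i with
  | zero =>
    rw [R, Set.ncard_singleton, cb]
  | succ i ih =>
    have hfin : (R A i).Finite := Set.toFinite _
    let S : Subgroup Q → Finset (Subgroup Q) := fun M => (Set.toFinite {K : Subgroup Q | ∃ g ∈ A, K = M ⊔ zpowers g}).toFinset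
    have h1 : R A (i + 1) ⊆ ↑(hfin.toFinset.biUnion S) := by
      rintro K ⟨M, hM, -, g, hg, rfl⟩
      rw [Finset.mem_coe, Finset.mem_biUnion]
      exact ⟨M, hfin.mem_toFinset.2 hM, (Set.Finite.mem_toFinset _).2 ⟨g, hg, rfl⟩⟩
    have h2 : (hfin.toFinset.biUnion S).card ≤ hfin.toFinset.card * (Nat.card A / 2 ^ i) := by
      apply Finset.card_biUnion_le_card_mul
      intro M hM
      have hM' := hfin.mem_toFinset.1 hM
      have h3 : (S M).card ≤ Nat.card A / Nat.card M := by
        have := card_step (R_le hM')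
        rwa [Set.ncard_eq_toFinset_card _ (Set.toFinite _)] at this
      exact h3.trans (Nat.div_le_div_left (pow_le_card hM') (by positivity))
    calc (R A (i + 1)).ncard ≤ (↑(hfin.toFinset.biUnion S) : Set (Subgroup Q)).ncard :=
          Set.ncard_le_ncard h1 (Set.toFinite _)
      _ = (hfin.toFinset.biUnion S).card := Set.ncard_coe_finset _
      _ ≤ hfin.toFinset.card * (Nat.card A / 2 ^ i) := h2
      _ ≤ cb (Nat.card A) i * (Nat.card A / 2 ^ i) := by
        apply Nat.mul_le_mul_right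
        rw [← Set.ncard_eq_toFinset_card _ hfin]
        exact ih

/-- number of prime factors -/
abbrev Om (n : ℕ) : ℕ := n.primeFactorsList.length

theorem Om_mul {a b : ℕ} (ha : a ≠ 0) (hb : b ≠ 0) : Om (a * b) = Om a + Om b := by
  have h := (Nat.perm_primeFactorsList_mul ha hb).length_eq
  rw [List.length_append] at h
  exact h

theorem Om_pos {a : ℕ} (ha : a ≠ 0) (h1 : a ≠ 1) : 1 ≤ Om a := by
  rw [Nat.one_le_iff_ne_zero]
  intro h
  rw [List.length_eq_zero_iff, Nat.primeFactorsList_eq_nil] at h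
  exact h.elim ha h1

theorem Om_lt {M' M : Subgroup Q} (h : M' < M) : Om (Nat.card M') < Om (Nat.card M) := by
  obtain ⟨k, hk⟩ := Subgroup.card_dvd_of_le h.le
  have h5 : k ≠ 0 := by
    rintro rfl
    rw [mul_zero] at hk
    exact Nat.card_pos.ne' hk
  have h6 : k ≠ 1 := by
    rintro rfl
    rw [mul_one] at hk
    exact h.ne (Subgroup.eq_of_le_of_card_ge h.le hk.le)
  rw [hk, Om_mul Nat.card_pos.ne' h5]
  have := Om_pos h5 h6
  omega

theorem exists_R (A : Subgroup Q) : ∀ (n : ℕ) (M : Subgroup Q), M ≤ A → Nat.card M ≤ n →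
    ∃ i ≤ Om (Nat.card M), M ∈ R A i := by
  intro n
  induction n with
  | zero =>
    intro M _ h
    exact absurd h (not_le.2 Nat.card_pos)
  | succ n ih =>
    intro M hM hn
    by_cases hb : M = ⊥
    · exact ⟨0, Nat.zero_le _, by rw [R, hb]; rfl⟩
    · -- a maximal proper subgroup
      obtain ⟨M', h1, h2⟩ : ∃ M' : Subgroup Q, M' < M ∧ ∀ K, M' < K → K ≤ M → K = M := by
        have hfin : {K : Subgroup Q | K < M}.Finite := Set.toFinite _
        obtain ⟨M', hM'⟩ := hfin.exists_maximal ⟨⊥, bot_lt_iff_ne_bot.2 hb⟩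
        refine ⟨M', hM'.1, fun K h3 h4 => ?_⟩
        by_contra hne
        have h5 := hM'.2 (lt_of_le_of_ne h4 hne) h3.le
        exact absurd h3 (not_lt_of_ge h5)
      obtain ⟨g, hg, hg'⟩ := SetLike.exists_of_lt h1
      have h3 : M' ⊔ zpowers g = M := by
        apply h2
        · refine lt_of_le_of_ne le_sup_left ?_
          intro h
          apply hg'
          rw [h]
          exact (le_sup_right : _ ≤ M' ⊔ zpowers g) (mem_zpowers _)
        · exact sup_le h1.le ((zpowers_le).2 hg)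
      have h4 : Nat.card M' < Nat.card M := by
        refine lt_of_le_of_ne (Nat.le_of_dvd Nat.card_pos (Subgroup.card_dvd_of_le h1.le)) ?_
        intro h
        exact h1.ne (Subgroup.eq_of_le_of_card_ge h1.le h.ge)
      obtain ⟨i, hi, hR⟩ := ih M' (h1.le.trans hM) (by omega)
      exact ⟨i + 1, lt_of_le_of_lt hi (Om_lt h1), M', hR, h1, g, hM hg, h3.symm⟩

/-- the number of proper subgroups -/
theorem card_lt (A : Subgroup Q) : ∀ k, {M : Subgroup Q | M ≤ A ∧ Om (Nat.card M) < k}.ncard ≤ sb (Nat.card A) k := by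
  intro k
  have h1 : {M : Subgroup Q | M ≤ A ∧ Om (Nat.card M) < k} ⊆ ⋃ i ∈ Finset.range k, R A i := by
    rintro M ⟨hM, hk⟩
    obtain ⟨i, hi, hR⟩ := exists_R A _ M hM le_rfl
    rw [Set.mem_iUnion₂]
    exact ⟨i, Finset.mem_range.2 (by omega), hR⟩
  refine (Set.ncard_le_ncard h1 (Set.toFinite _)).trans ?_
  clear h1
  induction k with
  | zero => simp [sb]
  | succ k ih =>
    rw [Finset.range_add_one, Finset.set_biUnion_insert, sb, add_comm]
    exact (Set.ncard_union_le _ _).trans (Nat.add_le_add (card_R A k) ih)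

variable {A : Subgroup Q} {Γ : Subgroup (MulAut Q)}

/-- **The crude bound.** -/
theorem index_le_sb (h : EPT A Γ) {N k : ℕ} (hN : N ≠ 0) (hd : Nat.card A ∣ N) (hk : Om N ≤ k) :
    A.index ≤ sb N k ^ 2 := by
  refine h.index_le.trans (Nat.pow_le_pow_left ?_ 2)
  have h0 : ∀ k, sb (Nat.card A) k ≤ sb N k := by
    intro k
    induction k with
    | zero => exact le_rfl
    | succ k ih => exact Nat.add_le_add ih (cb_mono (Nat.le_of_dvd (Nat.pos_of_ne_zero hN) hd) k)
  refine le_trans ?_ (h0 k)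
  refine le_trans ?_ (card_lt A k)
  apply Set.ncard_le_ncard _ (Set.toFinite _)
  rintro M ⟨x, hx, rfl⟩
  refine ⟨inf_le_left, ?_⟩
  have hlt : A ⊓ cj x A < A := by
    refine lt_of_le_of_ne inf_le_left ?_
    intro he
    apply hx
    apply h.selfnorm
    have h1 : A ≤ cj x A := by
      have h0 : A ⊓ cj x A ≤ cj x A := inf_le_right
      rwa [he] at h0
    have h2 : cj x A = A := by
      symm
      apply Subgroup.eq_of_le_of_card_ge h1
      rw [card_cj]
    intro a ha
    have h3 : x * a * x⁻¹ ∈ cj x A := by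
      rw [mem_cj]
      have : x⁻¹ * (x * a * x⁻¹) * x = a := by group
      rw [this]
      exact ha
    rw [h2] at h3
    exact h3
  have h1 := Om_lt hlt
  obtain ⟨c, hc⟩ := hd
  have hc0 : c ≠ 0 := by
    rintro rfl
    exact hN (by rw [hc, mul_zero])
  have h2 : Om (Nat.card A) ≤ Om N := by
    rw [hc, Om_mul Nat.card_pos.ne' hc0]
    omega
  omega

end

end Cfsg.Agent.H991.EP
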