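import Cfsg.Agent.H87.EPR.TwelveCard
import Cfsg.Agent.S3948
import Cfsg.Agent.H212.EP.Bound

/-!
# S3499: the bound for the socle `A_13` (after helper87, with helper212's count)
-/

set_option autoImplicit false
set_option linter.unusedSectionVars false

namespace Cfsg.Agent.H991.EP.AltThirteen

open Cfsg Cfsg.Geo Cfsg.Agent.H419.EP Cfsg.Agent.H284 Cfsg.Agent.H87.EPR

theorem not_comm_of_simple {L : Type} [Group L] [Finite L] (hL : IsSimpleGroup L) {n : ℕ} (hn : Nat.card L = n)
    (hp : ¬ n.Prime) : ¬ ∀ a b : L, a * b = b * a := by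
  intro h
  apply hp
  rw [← hn]
  let _ : CommGroup L := { (inferInstance : Group L) with mul_comm := h }
  exact IsSimpleGroup.prime_card

variable {Q : Type} [Group Q] [Finite Q] {A : Subgroup Q} {Γ : Subgroup (MulAut Q)}

theorem two_gen : Cfsg.Agent.H212.EP.TwoGenAll.{0} := fun _ _ _ _ => Cfsg.Agent.S3948.result

theorem simple_alt {n : ℕ} (hn : 5 ≤ n) : IsSimpleGroup (alternatingGroup (Fin n)) := by
  have : Fact (5 ≤ Nat.card (Fin n)) := ⟨by rwa [Nat.card_eq_fintype_card, Fintype.card_fin]⟩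
  exact alternatingGroup.isSimpleGroup (by rwa [Nat.card_eq_fintype_card, Fintype.card_fin])

theorem card_a13 : Nat.card (alternatingGroup (Fin 13)) = 3113510400 := by
  rw [nat_card_alternatingGroup, Nat.card_eq_fintype_card, Fintype.card_fin]
  rfl

/-- `A_13` -/
theorem le_a13 (hs : IsSimpleGroup Q) (h : EPT A Γ) (hsoc : HasSoc A (alternatingGroup (Fin 13))) :
    Nat.card Q ≤ 9 * 10 ^ 44 := by
  have hA : Nat.card A ∣ 6227020800 := (card_dvd_aut hsoc).trans (card_aut_alt (by norm_num))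
  have h1 := Cfsg.Agent.H212.EP.index_le_of_dvd two_gen hs h (N := 6227020800) (by norm_num) hA
    (l := [(2, 10), (3, 5), (5, 2), (7, 1), (11, 1), (13, 1)]) (fun p hp hd => ?_) (k := 2)
    (Cfsg.Agent.H212.EP.pow_not_dvd (m := 1840) (by norm_num) (by norm_num) (by decide +kernel)) (μ := 6) (by norm_num)
    (Cfsg.Agent.H212.EP.six_le h fun K hK hKn hKab =>
      hsoc.no_abelian (simple_alt (by norm_num)) (not_comm_of_simple (simple_alt (by norm_num)) card_a13 (by norm_num))
        hK hKn hKab)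
  · have h2 : Cfsg.Agent.H212.EP.spl 6227020800 [(2, 10), (3, 5), (5, 2), (7, 1), (11, 1), (13, 1)] ≤ 2 * 10 ^ 21 := by
      decide +kernel
    have h3 := Nat.le_of_dvd (by norm_num) hA
    rw [← A.card_mul_index]
    refine (Nat.mul_le_mul_right _ h3).trans ?_
    have h4 : 60 ^ 2 * A.index ≤ 60 ^ 2 + (60 ^ 2 * (2 * 10 ^ 21) + 6227020800 ^ (2 + 1)) * (2 * (6227020800 / 6)) :=
      h1.trans (Nat.add_le_add_left (Nat.mul_le_mul_right _ (Nat.add_le_add_right (Nat.mul_le_mul_left _ h2) _)) _)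
    norm_num at h4 ⊢
    omega
  · have h13 : p ≤ 13 := (Nat.Prime.dvd_factorial hp).1 (show p ∣ Nat.factorial 13 from hd)
    have h2 := hp.two_le
    interval_cases p <;> try (exfalso; revert hp; norm_num; done)
    · exact ⟨10, by simp, by norm_num, by norm_num⟩
    · exact ⟨5, by simp, by norm_num, by norm_num⟩
    · exact ⟨2, by simp, by norm_num, by norm_num⟩
    · exact ⟨1, by simp, by norm_num, by norm_num⟩
    · exact ⟨1, by simp, by norm_num, by norm_num⟩
    · exact ⟨1, by simp, by norm_num, by norm_num⟩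

end Cfsg.Agent.H991.EP.AltThirteen
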