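import Cfsg.Agent.H72.AdjOrth
import Cfsg.Agent.H621.EP.OrdO

/-!
# Elements of order 121 in `PΩ⁺_{2m}(3)`, `m ≥ 5` (helper991)
-/

set_option autoImplicit false

open Cfsg

namespace Cfsg.Agent.H991.EP

open Cfsg.Agent.H284 Cfsg.Agent.H419.EP Cfsg.Agent.H377 Cfsg.Agent.H72

theorem exists_121 {F : Type*} [Field F] [Finite F] (hF : Nat.card F = 3) {m : ℕ} (hm : 5 ≤ m) :
    ∃ g : POmega F (quadFormPlus m F), orderOf g = 121 := by
  have h1 : Elt F 5 1 121 := by
    have := AdjOrth.elt_tn (F := F) (k := 5) (N := 121) (by norm_num) (by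
      rw [AdjOrth.tn, hF]
      decide)
    exact this
  have h2 : Elt F m 1 121 := by
    rcases Nat.eq_or_lt_of_le hm with h | h
    · subst h
      exact h1
    · exact AdjOrth.elt_extend h1 (Or.inl rfl) (Or.inl rfl) (by omega)
  exact (Elt.two (by omega) (by decide) h2).plus (by omega)

theorem model_121 {Q : Type*} [Group Q] {ι : Type} [Fintype ι] [DecidableEq ι] {F : Type*} [Field F] [Fintype F]
    {Qf : (ι → F) → F} (hQ : Cfsg.Geo.IsNondegenerateQuadraticForm Qf) {m : ℕ} (hm : 5 ≤ m)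
    (hc : Fintype.card ι = 2 * m) (hplus : Cfsg.Geo.IsPlusTypeOn Qf ⊤) (M : Model Q (Cfsg.Geo.omegaGL Qf))
    (hF : Fintype.card F = 3) : ∃ c : Q, orderOf c = 121 := by
  obtain ⟨e⟩ := Cfsg.Agent.H621.EP.model_plus hQ (by omega) hc hplus M
  obtain ⟨g, hg⟩ := exists_121 (F := F) (by rw [Nat.card_eq_fintype_card, hF]) hm
  exact ⟨e.symm g, by rw [MulEquiv.orderOf_eq, hg]⟩

end Cfsg.Agent.H991.EP
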