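import Cfsg.Agent.H991.EP.Crude
import Cfsg.Agent.H888.C6.PlusFin
import Cfsg.Agent.S0293
import Cfsg.Agent.S0813
import Cfsg.Agent.S2061
import Cfsg.Agent.S2119
import Cfsg.Agent.S5872
import Cfsg.Agent.H168.EP.Alt
import Cfsg.Agent.H991.EP.Elt121
import Cfsg.Agent.H991.EP.A13
import Cfsg.Agent.H934.OutB
import Cfsg.Agent.S0265
import Cfsg.Agent.ClassicalGeometry.PSL2Basic
import Cfsg.Agent.NotCT.Orders
import Cfsg.Agent.Schreier.MTwelve

/-!
# S3499, row S5872: `Ω⁺₁₂(q)`, residual class (helper991)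
-/

set_option autoImplicit false

open Cfsg

namespace Cfsg.Agent.H991.EP

open Subgroup Cfsg.Agent.H284 Cfsg.Agent.H419.EP
open scoped MatrixGroups

section gen

variable {Q : Type*} [Group Q] {ι : Type} [Fintype ι] [DecidableEq ι] {F : Type*} [Field F] {S : Subgroup (GL ι F)}

theorem card_model (m : Model Q S) : Nat.card Q = Nat.card (S ⧸ (Cfsg.Geo.scalars ι F).subgroupOf S) := by
  have hker : m.π.ker = (Cfsg.Geo.scalars ι F).subgroupOf S := by
    ext s
    rw [MonoidHom.mem_ker, m.ker]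
    rfl
  rw [← hker]
  exact (Nat.card_congr (QuotientGroup.quotientKerEquivOfSurjective m.π m.surj).toEquiv).symm

theorem soc_dvd {A : Subgroup Q} {L : Type*} [Group L] [Finite L] (h : HasSoc A L) :
    Nat.card A ∣ Nat.card (MulAut L) := by
  obtain ⟨f, hf⟩ := h.exists_hom
  exact Subgroup.card_dvd_of_injective f hf

/-- `|Q| ≤ N (sb N k) ^ 2` -/
theorem card_le_sb [Finite Q] {A : Subgroup Q} {Γ : Subgroup (MulAut Q)} (h : EPT A Γ) {L : Type*} [Group L] [Finite L]
    (hL : HasSoc A L) {N k : ℕ} (hN : N ≠ 0) (hd : Nat.card (MulAut L) ∣ N) (hk : Om N ≤ k) :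
    Nat.card Q ≤ N * sb N k ^ 2 := by
  have h1 := (soc_dvd hL).trans hd
  rw [← A.card_mul_index]
  exact Nat.mul_le_mul (Nat.le_of_dvd (Nat.pos_of_ne_zero hN) h1) (index_le_sb h hN h1 hk)

end gen

/-! ### automorphism groups -/

instance : Fact (Nat.Prime 11) := ⟨by norm_num⟩
instance : Fact (Nat.Prime 13) := ⟨by norm_num⟩

theorem aut_l211 : Nat.card (MulAut (Matrix.ProjectiveSpecialLinearGroup (Fin 2) (ZMod 11))) = 1320 := by
  rw [Cfsg.Agent.S0813.result 11 1 le_rfl (by rw [ZMod.card, pow_one]) 2 le_rfl (fun _ => by norm_num),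
    Cfsg.Agent.S0265.result, Cfsg.Agent.ClassicalGeometry.PSL2Basic.card_SL2, ZMod.card]
  norm_num

theorem aut_l33 : Nat.card (MulAut (Matrix.ProjectiveSpecialLinearGroup (Fin 3) (ZMod 3))) ∣ 22464 := by
  have : Fact (Nat.Prime 3) := ⟨Nat.prime_three⟩
  rw [S0813.result 3 1 le_rfl (by rw [ZMod.card, pow_one]) 3 (by norm_num) (fun h => absurd h (by norm_num)),
    if_neg (by norm_num), mul_one]
  have h1 : Nat.card (Matrix.ProjGenLinGroup (Fin 3) (ZMod 3)) ∣ 11232 := by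
    have h2 : Nat.card (GL (Fin 3) (ZMod 3)) = 11232 := by
      rw [Matrix.card_GL_field]
      simp [Fin.prod_univ_three, ZMod.card]
    rw [← h2]
    exact Subgroup.card_quotient_dvd_card _
  exact mul_dvd_mul_left 2 h1

theorem aut_l213 : Nat.card (MulAut (Matrix.ProjectiveSpecialLinearGroup (Fin 2) (ZMod 13))) = 2184 := by
  rw [Cfsg.Agent.S0813.result 13 1 le_rfl (by rw [ZMod.card, pow_one]) 2 le_rfl (fun _ => by norm_num),
    Cfsg.Agent.S0265.result, Cfsg.Agent.ClassicalGeometry.PSL2Basic.card_SL2, ZMod.card]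
  norm_num

theorem aut_a13 : Nat.card (MulAut (alternatingGroup (Fin 13))) = 6227020800 := by
  have h := Cfsg.Agent.S2119.result 13 (by norm_num) (by norm_num)
  rw [← Nat.card_congr (Equiv.ofBijective _ h), Nat.card_perm, Nat.card_fin]
  rfl

theorem aut_m12 : Nat.card (MulAut Spor.M12) = 190080 := by
  have hs : IsSimpleGroup Spor.M12 := Cfsg.Agent.Schreier.MTwelve.isSimpleGroup
  have hc : Nat.card Spor.M12 = 95040 := NotCT.Orders.m12 ⟨MulEquiv.refl _⟩
  have hna : ¬ IsMulCommutative Spor.M12 := by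
    intro h
    letI : CommGroup Spor.M12 := { (inferInstance : Group Spor.M12) with mul_comm := h.is_comm.comm }
    have h1 : (Nat.card Spor.M12).Prime := IsSimpleGroup.prime_card (α := Spor.M12)
    rw [hc] at h1
    norm_num at h1
  rw [← Cfsg.Agent.H934.OutB.card_out_mul Spor.M12 hna, Cfsg.Agent.S2061.result, hc]

/-! ### the order of `PΩ⁺₁₂(q)` -/

/-- the numerator of the order -/
def oq (q : ℕ) : ℕ := q ^ 30 * (q ^ 6 - 1) * ((q ^ 2 - 1) * (q ^ 4 - 1) * (q ^ 6 - 1) * (q ^ 8 - 1) * (q ^ 10 - 1))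

theorem oq_mono {a b : ℕ} (h : a ≤ b) : oq a ≤ oq b := by
  unfold oq
  have h1 : ∀ k, a ^ k - 1 ≤ b ^ k - 1 := fun k => Nat.sub_le_sub_right (Nat.pow_le_pow_left h k) 1
  exact Nat.mul_le_mul (Nat.mul_le_mul (Nat.pow_le_pow_left h 30) (h1 6))
    (Nat.mul_le_mul (Nat.mul_le_mul (Nat.mul_le_mul (Nat.mul_le_mul (h1 2) (h1 4)) (h1 6)) (h1 8)) (h1 10))

theorem oq_eq {Q : Type*} [Group Q] {F : Type} [Field F] [Fintype F] {Qf : (Fin 12 → F) → F}
    (m : Model Q (Cfsg.Geo.omegaGL Qf)) (hQ : Cfsg.Geo.IsNondegenerateQuadraticForm Qf)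
    (hplus : Cfsg.Geo.IsPlusTypeOn Qf ⊤) :
    oq (Fintype.card F) = Nat.gcd 4 (Fintype.card F ^ 6 - 1) * Nat.card Q := by
  have h1 : Nat.card Q = Nat.card (POmega F (quadFormPlus 6 F)) := by
    rw [card_model m, ← Cfsg.Agent.H888.C6.card_pomega_plus (n := 12) (m := 6) (by norm_num) (by norm_num) hQ hplus]
    exact Cfsg.Agent.H888.C6.card_QY_omega hQ (by rw [Fintype.card_fin]; norm_num)
  have h2 := Cfsg.Agent.S0293.result (F := F) rfl 6 (by norm_num)
  rw [← h1] at h2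
  simp only [Finset.prod_range_succ, Finset.prod_range_zero, one_mul] at h2
  rw [h2]
  rfl

theorem oq_le {Q : Type*} [Group Q] {F : Type} [Field F] [Fintype F] {Qf : (Fin 12 → F) → F}
    (m : Model Q (Cfsg.Geo.omegaGL Qf)) (hQ : Cfsg.Geo.IsNondegenerateQuadraticForm Qf)
    (hplus : Cfsg.Geo.IsPlusTypeOn Qf ⊤) : oq (Fintype.card F) ≤ 4 * Nat.card Q := by
  rw [oq_eq m hQ hplus]
  exact Nat.mul_le_mul_right _ (Nat.le_of_dvd (by norm_num) (Nat.gcd_dvd_left 4 _))

/-! ### the row -/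

/-- all socles but `A₁₃` -/
theorem row_core {Q : Type} [Group Q] [Finite Q] {A : Subgroup Q} {Γ : Subgroup (MulAut Q)} (h : EPT A Γ)
    {F : Type} [Field F] [Fintype F] {Qf : (Fin 12 → F) → F} (m : Model Q (Cfsg.Geo.omegaGL Qf))
    (hQ : Cfsg.Geo.IsNondegenerateQuadraticForm Qf) (hplus : Cfsg.Geo.IsPlusTypeOn Qf ⊤)
    (hres : Cfsg.Geo.InOrthogonalResidualClass (m.hat A))
    (h13 : HasSoc A (alternatingGroup (Fin 13)) → Fintype.card F = 3 ∨ 17 ≤ Fintype.card F → False) : False := by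
  obtain ⟨P, p, hP, hp, hch, hcase⟩ := Cfsg.Agent.S5872.result Qf hQ hplus (m.hat A) (m.isMaximalIn h.max) hres
  have hs := hasSoc_of_core m hP
  have hq := oq_le m hQ hplus
  have key : ∀ {q₀ N : ℕ}, q₀ ≤ Fintype.card F → Nat.card Q ≤ N → 4 * N < oq q₀ → False := by
    intro q₀ N h1 h2 h3
    have h4 := oq_mono h1
    omega
  rcases hcase with ⟨⟨e⟩, hF, hc⟩ | ⟨⟨e⟩, hc⟩ | ⟨⟨e⟩, hF, hp3, -, hc, -⟩ | ⟨⟨e⟩, hF, hc⟩ | ⟨⟨e⟩, hF, hc⟩
  · -- `L₂(11)`
    have h1 := card_le_sb h (hs.congr e) (N := 1320) (k := 6) (by norm_num)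
      (by rw [aut_l211]) (by decide +kernel)
    refine key (q₀ := 19) ?_ h1 (by decide +kernel)
    rw [hF]
    by_contra hlt
    have : p < 19 := not_le.1 hlt
    interval_cases p <;> first | omega | norm_num at hp
  · -- `L₂(13)`
    have h1 := card_le_sb h (hs.congr e) (N := 2184) (k := 6) (by norm_num) (by rw [aut_l213]) (by decide +kernel)
    refine key (q₀ := 19) ?_ h1 (by decide +kernel)
    rcases hc with ⟨hF, hc, hc'⟩ | ⟨hF, hc⟩
    · rw [hF]
      by_contra hlt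
      have : p < 19 := not_le.1 hlt
      interval_cases p <;> first | omega | norm_num at hp
    · rw [hF]
      have h3 : 3 ≤ p := by
        by_contra hlt
        have : p < 3 := not_le.1 hlt
        interval_cases p <;> first | omega | norm_num at hp
      calc 19 ≤ 3 ^ 3 := by norm_num
        _ ≤ p ^ 3 := Nat.pow_le_pow_left h3 3
  · -- `L₃(3)`
    have h1 := card_le_sb h (hs.congr e) (N := 22464) (k := 10) (by norm_num)
      aut_l33 (by decide +kernel)
    refine key (q₀ := 11) ?_ h1 (by decide +kernel)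
    rw [hF]
    by_contra hlt
    have : p < 11 := not_le.1 hlt
    interval_cases p <;> first | omega | norm_num at hp
  · -- `M₁₂`
    have h1 := card_le_sb h (hs.congr e) (N := 190080) (k := 12) (by norm_num) (by rw [aut_m12]) (by decide +kernel)
    refine key (q₀ := 23) ?_ h1 (by decide +kernel)
    rw [hF]
    by_contra hlt
    have : p < 23 := not_le.1 hlt
    interval_cases p <;> first | omega | norm_num at hp
  · -- `A₁₃`
    refine h13 (hs.congr e) ?_
    rw [hF]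
    by_contra hlt
    rw [not_or, not_le] at hlt
    obtain ⟨hlt, hlt'⟩ := hlt
    interval_cases p <;> first | omega | norm_num at hp

theorem card_le_alt {Q : Type} [Group Q] [Finite Q] {A : Subgroup Q} {B : ℕ}
    (hs : HasSoc A (alternatingGroup (Fin 13))) (hB : A.index ≤ B) : Nat.card Q ≤ 6227020800 * B := by
  rw [← A.card_mul_index]
  exact Nat.mul_le_mul (Nat.le_of_dvd (by norm_num) (by
    have := soc_dvd hs
    rwa [aut_a13] at this)) hB

theorem row_omega_twelve_plus {Q : Type} [Group Q] [Finite Q] {A : Subgroup Q} {Γ : Subgroup (MulAut Q)} (h : EPT A Γ)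
    {F : Type} [Field F] [Fintype F] {Qf : (Fin 12 → F) → F} (m : Model Q (Cfsg.Geo.omegaGL Qf))
    (hQ : Cfsg.Geo.IsNondegenerateQuadraticForm Qf) (hplus : Cfsg.Geo.IsPlusTypeOn Qf ⊤)
    (hres : Cfsg.Geo.InOrthogonalResidualClass (m.hat A))
    (h13 : HasSoc A (alternatingGroup (Fin 13)) → A.index ≤ 2 ^ 69) : False := by
  refine row_core h m hQ hplus hres fun hs h3 => ?_
  have h1 := card_le_alt hs (h13 hs)
  have h2 := oq_le m hQ hplus
  have h4 := oq_mono (show 3 ≤ Fintype.card F by omega)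
  have h5 : 4 * (6227020800 * 2 ^ 69) < oq 3 := by decide +kernel
  omega

/-- `11 ^ 3` does not divide `|PΩ⁺₁₂(3)|` -/
theorem not_dvd_eleven {Q : Type*} [Group Q] {F : Type} [Field F] [Fintype F] {Qf : (Fin 12 → F) → F}
    (m : Model Q (Cfsg.Geo.omegaGL Qf)) (hQ : Cfsg.Geo.IsNondegenerateQuadraticForm Qf)
    (hplus : Cfsg.Geo.IsPlusTypeOn Qf ⊤) (h3 : Fintype.card F = 3) : ¬ 11 ^ 3 ∣ Nat.card Q := by
  intro hd
  have h4 := oq_eq m hQ hplus
  rw [h3] at h4
  have h5 : 11 ^ 3 ∣ oq 3 := by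
    rw [h4]
    exact Dvd.dvd.mul_left hd _
  revert h5
  decide +kernel

/-- **Row S5872**, with the forms of helper168 (task 5954) -/
theorem row_omega_twelve_plus' {Q : Type} [Group Q] [Finite Q] {A : Subgroup Q} {Γ : Subgroup (MulAut Q)} (h : EPT A Γ)
    {F : Type} [Field F] [Fintype F] {Qf : (Fin 12 → F) → F} (m : Model Q (Cfsg.Geo.omegaGL Qf))
    (hQ : Cfsg.Geo.IsNondegenerateQuadraticForm Qf) (hplus : Cfsg.Geo.IsPlusTypeOn Qf ⊤)
    (hres : Cfsg.Geo.InOrthogonalResidualClass (m.hat A))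
    (h13 : HasSoc A (alternatingGroup (Fin 13)) → A.index < 2 * 10 ^ 27)
    (h121 : Fintype.card F = 3 → ∃ c : Q, orderOf c = 121) : False := by
  refine row_core h m hQ hplus hres fun hs h3 => ?_
  rcases h3 with h3 | h3
  · obtain ⟨c, hc⟩ := h121 h3
    exact Cfsg.Agent.H168.EP.kill_121 h hs (by norm_num) le_rfl hc (not_dvd_eleven m hQ hplus h3)
  · have h1 := card_le_alt hs (h13 hs).le
    have h2 := oq_le m hQ hplus
    have h4 := oq_mono h3
    have h5 : 4 * (6227020800 * (2 * 10 ^ 27)) < oq 17 := by decide +kernel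
    omega

/-- **Row S5872**, only the case `A₁₃`, `q = 3` is left -/
theorem row_omega_twelve_plus'' {Q : Type} [Group Q] [Finite Q] (hs : IsSimpleGroup Q) {A : Subgroup Q}
    {Γ : Subgroup (MulAut Q)} (h : EPT A Γ)
    {F : Type} [Field F] [Fintype F] {Qf : (Fin 12 → F) → F} (m : Model Q (Cfsg.Geo.omegaGL Qf))
    (hQ : Cfsg.Geo.IsNondegenerateQuadraticForm Qf) (hplus : Cfsg.Geo.IsPlusTypeOn Qf ⊤)
    (hres : Cfsg.Geo.InOrthogonalResidualClass (m.hat A))
    (h121 : Fintype.card F = 3 → ∃ c : Q, orderOf c = 121) : False := by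
  refine row_core h m hQ hplus hres fun hS h3 => ?_
  rcases h3 with h3 | h3
  · obtain ⟨c, hc⟩ := h121 h3
    exact Cfsg.Agent.H168.EP.kill_121 h hS (by norm_num) le_rfl hc (not_dvd_eleven m hQ hplus h3)
  · have h1 := Cfsg.Agent.H991.EP.AltThirteen.le_a13 hs h hS
    have h2 := oq_le m hQ hplus
    have h4 := oq_mono h3
    have h5 : 4 * (9 * 10 ^ 44) < oq 17 := by decide +kernel
    omega

/-- **Row S5872, unconditional** -/
theorem row_S5872 {Q : Type} [Group Q] [Finite Q] (hs : IsSimpleGroup Q) {A : Subgroup Q}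
    {Γ : Subgroup (MulAut Q)} (h : EPT A Γ)
    {F : Type} [Field F] [Fintype F] {Qf : (Fin 12 → F) → F} (m : Model Q (Cfsg.Geo.omegaGL Qf))
    (hQ : Cfsg.Geo.IsNondegenerateQuadraticForm Qf) (hplus : Cfsg.Geo.IsPlusTypeOn Qf ⊤)
    (hres : Cfsg.Geo.InOrthogonalResidualClass (m.hat A)) : False :=
  row_omega_twelve_plus'' hs h m hQ hplus hres fun h3 =>
    model_121 hQ (m := 6) (by norm_num) (by rw [Fintype.card_fin]) hplus m h3

end Cfsg.Agent.H991.EP
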